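import Groth.Agent.InvUfdLib.Semilocal
import Groth.Agent.InvX.Pullback
import Groth.Agent.InvX.Tensor
import Groth.Agent.H23.CocycleMod
import Groth.Agent.DivX.MeroMod
import Mathlib.AlgebraicGeometry.Morphisms.ClosedImmersion

/-!
# Invertible modules along a finite morphism to a scheme of dimension at most one
-/

set_option autoImplicit false
set_option backward.isDefEq.respectTransparency false
set_option backward.isDefEq.respectTransparency.types false

universe u

open CategoryTheory CategoryTheory.Limits AlgebraicGeometry TopologicalSpace Opposite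

noncomputable section

namespace Groth.Agent.InvDim1

open Groth.Agent InvX AModX

variable {X Y : Scheme.{u}}

/-- A point is maximal if it has no proper generization. -/
def IsMaxPt (z : Y) : Prop := ∀ z' : Y, z' ⤳ z → z' = z

theorem isClosed_singleton (hdim : topologicalKrullDim Y ≤ 1) {x y : Y} (hyx : y ⤳ x) (hne : x ≠ y) :
    IsClosed ({x} : Set Y) := by
  rw [← closure_eq_iff_isClosed]
  refine subset_antisymm (fun z hz => ?_) subset_closure
  by_contra hzx
  have key : ∀ {p q : Y}, q ⤳ p → p ≠ q →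
      (⟨closure {p}, isIrreducible_singleton.closure, isClosed_closure⟩ : IrreducibleCloseds Y) <
        ⟨closure {q}, isIrreducible_singleton.closure, isClosed_closure⟩ := by
    intro p q h hne
    rw [← SetLike.coe_ssubset_coe]
    refine ⟨isClosed_closure.closure_subset_iff.2 (by simpa using h.mem_closure), fun hle => hne ?_⟩
    exact ((specializes_iff_mem_closure.2 (hle (subset_closure rfl))).antisymm h).eq
  let s : LTSeries (IrreducibleCloseds Y) :=
    RelSeries.cons ((RelSeries.singleton _ _).cons _ (key hyx hne))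
      ⟨closure {z}, isIrreducible_singleton.closure, isClosed_closure⟩
      (by simp only [RelSeries.head_cons]; exact key (specializes_iff_mem_closure.2 hz) hzx)
  have h2 : (2 : WithBot ℕ∞) ≤ topologicalKrullDim Y := by
    refine le_trans (le_of_eq ?_) (Order.LTSeries.length_le_krullDim s)
    simp only [s, RelSeries.cons_length, RelSeries.singleton_length]
    rfl
  exact absurd (h2.trans hdim) (by decide)

theorem isClosed_of_not_max (hdim : topologicalKrullDim Y ≤ 1) {x : Y} (hx : ¬ IsMaxPt x) :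
    IsClosed ({x} : Set Y) := by
  simp only [IsMaxPt, not_forall] at hx
  obtain ⟨y, hy, hne⟩ := hx
  exact isClosed_singleton hdim hy (Ne.symm hne)

theorem exists_max_generization (x : Y) : ∃ η : Y, η ⤳ x ∧ IsMaxPt η := by
  have hZ := irreducibleComponent_mem_irreducibleComponents x
  let η := (hZ.1).genericPoint
  have hη : IsGenericPoint η (closure (irreducibleComponent x)) := hZ.1.isGenericPoint_genericPoint_closure
  rw [isClosed_irreducibleComponent.closure_eq] at hη
  refine ⟨η, hη.specializes mem_irreducibleComponent, fun z hz => ?_⟩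
  have h1 : irreducibleComponent x ⊆ closure {z} := by
    rw [← hη.def]
    exact closure_minimal (Set.singleton_subset_iff.2 (specializes_iff_mem_closure.1 hz)) isClosed_closure
  have h2 := hZ.2 isIrreducible_singleton.closure h1
  exact (hz.antisymm (hη.specializes (h2 (subset_closure rfl)))).eq.trans rfl

theorem finite_maxPts [IsNoetherian Y] : {z : Y | IsMaxPt z}.Finite := by
  refine Set.Finite.of_finite_image (f := fun z : Y => closure ({z} : Set Y)) ?_ ?_
  · refine NoetherianSpace.finite_irreducibleComponents.subset ?_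
    rintro _ ⟨z, hz, rfl⟩
    refine ⟨isIrreducible_singleton.closure, fun t ht hle => ?_⟩
    obtain ⟨η, hη, hmax⟩ := exists_max_generization z
    have hzt : z ∈ closure t := subset_closure (hle (subset_closure rfl))
    intro a ha
    have hg := ht.isGenericPoint_genericPoint_closure
    have hsp : ht.genericPoint ⤳ z := hg.specializes hzt
    exact specializes_iff_mem_closure.1 ((hz _ hsp) ▸ hg.specializes (subset_closure ha))
  · intro a ha b hb e
    exact (hb a (specializes_iff_mem_closure.2 (show b ∈ closure ({a} : Set Y) by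
      rw [show closure ({a} : Set Y) = closure {b} from e]; exact subset_closure rfl)))

variable (f : X ⟶ Y) [IsFinite f] {L : X.Modules}

theorem exists_frame_near (hL : PicF.IsInvertible L) (z : Y) :
    ∃ (W : Y.Opens) (s : Γ(L, f ⁻¹ᵁ W)), z ∈ W ∧ IsFrame s := by
  obtain ⟨_, ⟨V₀, hV₀, rfl⟩, hyV₀, -⟩ :=
    Y.isBasis_affineOpens.exists_subset_of_mem_open (Set.mem_univ z) isOpen_univ
  have hd : ∀ x ∈ f ⁻¹' {z}, ∀ x' ∈ f ⁻¹' {z}, x ⤳ x' → x = x' := by
    intro x hx x' hx' h
    have := (f.isDiscrete_preimage_singleton z).1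
    have h' : (⟨x, hx⟩ : f ⁻¹' {z}) ⤳ ⟨x', hx'⟩ := (subtype_specializes_iff _ _).2 h
    exact congrArg Subtype.val h'.eq
  obtain ⟨O, s, hFO, hs⟩ := InvUfdLib.exists_frame_finset hL (hV₀.preimage f) (f ⁻¹' {z})
    (f.finite_preimage_singleton z)
    (fun x (hx : f x = z) => show f x ∈ V₀ from hx ▸ hyV₀) hd
  let Z : Set Y := f '' ((O : Set X)ᶜ)
  let V : Y.Opens := ⟨Zᶜ, (f.isClosedMap _ O.isOpen.isClosed_compl).isOpen_compl⟩
  have hy : z ∈ V := by
    rintro ⟨x, hx, rfl⟩
    exact hx (hFO rfl)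
  have hle : f ⁻¹ᵁ V ≤ O := fun x hx => not_not.1 fun h => hx ⟨x, h, rfl⟩
  exact ⟨V, res L hle s, hy, hs.res hle⟩

theorem isFrame_of_locally' {M : X.Modules} {U : X.Opens} (e : Γ(M, U))
    (h : ∀ x ∈ U, ∃ (O : X.Opens) (i : O ≤ U), x ∈ O ∧ IsFrame (AModX.res M i e)) : IsFrame e := by
  choose O i hxO hO using h
  refine InvUfdLib.isFrame_of_cover (fun a : U => O a.1 a.2) (fun a => i a.1 a.2)
    (fun x hx => ⟨⟨x, hx⟩, hxO x hx⟩) e fun a => hO a.1 a.2

variable (V : Y.Opens) [IsClosedImmersion (f ∣_ V)]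

/-- Units upstairs lift near a maximal point inside the closed immersion locus. -/
theorem exists_unit_lift {P : Y.Opens} (hPV : P ≤ V) {η : Y}
    (hη : η ∈ P) (u : Γ(X, f ⁻¹ᵁ P)) (hu : IsUnit u) :
    ∃ (D : Y.Opens) (hDP : D ≤ P) (a : Γ(Y, D)), η ∈ D ∧ IsUnit a ∧
      f.app D a = resR (f.preimage_mono hDP) u := by
  by_cases hr : η ∈ Set.range f
  · obtain ⟨_, ⟨D₀, hD₀, rfl⟩, hηD₀, hD₀P⟩ := Y.isBasis_affineOpens.exists_subset_of_mem_open
      (show η ∈ P from hη) P.isOpen
    have hsurj : Function.Surjective (f.app D₀) := by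
      have himg : V.ι ''ᵁ V.ι ⁻¹ᵁ (D₀ : Y.Opens) = D₀ := by
        rw [Scheme.Hom.image_preimage_eq_opensRange_inf, Scheme.Opens.opensRange_ι]
        exact inf_eq_right.2 (le_trans hD₀P hPV)
      have h2 := (f ∣_ V).app_surjective (V.ι ⁻¹ᵁ D₀)
        (hD₀.preimage_of_isOpenImmersion V.ι (by rw [Scheme.Opens.opensRange_ι]; exact le_trans hD₀P hPV))
      rw [morphismRestrict_app] at h2
      have h3 : Function.Surjective (f.app (V.ι ''ᵁ V.ι ⁻¹ᵁ (D₀ : Y.Opens))) := by
        intro b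
        obtain ⟨a, ha⟩ := h2 (X.presheaf.map (eqToHom (image_morphismRestrict_preimage f V (V.ι ⁻¹ᵁ D₀))).op b)
        exact ⟨a, (ConcreteCategory.bijective_of_isIso
          (X.presheaf.map (eqToHom (image_morphismRestrict_preimage f V (V.ι ⁻¹ᵁ D₀))).op)).1 ha⟩
      rwa [himg] at h3
    obtain ⟨a, ha⟩ := hsurj (resR (f.preimage_mono hD₀P) u)
    obtain ⟨x, hx⟩ := hr
    have hηb : η ∈ Y.basicOpen a := by
      subst hx
      refine (Y.mem_basicOpen a (f x) hηD₀).2 (isUnit_of_map_unit (f.stalkMap x).hom _ ?_)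
      erw [f.germ_stalkMap_apply D₀ x hηD₀ a, ha]
      exact (hu.map _).map _
    refine ⟨Y.basicOpen a, (Y.basicOpen_le a).trans hD₀P, resR (Y.basicOpen_le a) a, hηb,
      RingedSpace.isUnit_res_basicOpen Y.toRingedSpace a, ?_⟩
    have h1 := congrArg (resR (f.preimage_mono (Y.basicOpen_le a))) ha
    rw [resR_resR] at h1
    rw [← h1]
    exact ConcreteCategory.congr_hom (f.naturality (homOfLE (Y.basicOpen_le a)).op) a
  · let D : Y.Opens := P ⊓ ⟨(Set.range f)ᶜ, f.isClosedMap.isClosed_range.isOpen_compl⟩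
    refine ⟨D, inf_le_left, 1, ⟨hη, hr⟩, isUnit_one, ?_⟩
    exact TopCat.Presheaf.section_ext X.sheaf _ _ _ fun x hx => absurd ⟨x, rfl⟩ hx.2

/-- An invertible module is pulled back when the morphism is a closed immersion over a dense open. -/
theorem exists_descent [IsNoetherian Y] (hdim : topologicalKrullDim Y ≤ 1) (hV : Dense (V : Set Y))
    (hL : PicF.IsInvertible L) :
    ∃ N : Y.Modules, PicF.IsInvertible N ∧ Nonempty ((Scheme.Modules.pullback f).obj N ≅ L) := by
  classical
  let Mx : Set Y := {z | IsMaxPt z}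
  have hMx : Mx.Finite := finite_maxPts
  have hMV : ∀ η ∈ Mx, η ∈ V := fun η hη => by
    let C : Set Y := ⋃ ζ ∈ Mx \ {η}, closure {ζ}
    have hC : IsClosed C := (hMx.sdiff).isClosed_biUnion fun _ _ => isClosed_closure
    have hηC : η ∈ Cᶜ := fun h => by
      simp only [C, Set.mem_iUnion] at h
      obtain ⟨ζ, ⟨-, hne⟩, hζ⟩ := h
      exact hne (hη ζ (specializes_iff_mem_closure.2 hζ))
    obtain ⟨z, hz, hzV⟩ := hV.inter_open_nonempty Cᶜ hC.isOpen_compl ⟨η, hηC⟩
    obtain ⟨ζ, hζz, hζ⟩ := exists_max_generization z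
    have hζη : ζ = η := by_contra fun hne => hz (by
      simp only [C, Set.mem_iUnion]
      exact ⟨ζ, ⟨hζ, hne⟩, specializes_iff_mem_closure.1 hζz⟩)
    exact hζη ▸ hζz.mem_open V.isOpen hzV
  choose W s hzW hs using exists_frame_near f hL
  let C : Y → Set Y := fun η => ⋃ ζ ∈ Mx \ {η}, closure {ζ}
  let G : ↥Mx → Y.Opens := fun η => W η.1 ⊓ V ⊓
    ⟨(C η.1)ᶜ, ((hMx.sdiff).isClosed_biUnion fun _ _ => isClosed_closure).isOpen_compl⟩
  have hηG : ∀ η : ↥Mx, η.1 ∈ G η := fun η => by
    refine ⟨⟨hzW _, hMV _ η.2⟩, fun h => ?_⟩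
    simp only [C, Set.mem_iUnion] at h
    obtain ⟨ζ, ⟨-, hne⟩, hζ⟩ := h
    exact hne (η.2 ζ (specializes_iff_mem_closure.2 hζ))
  have hgenG : ∀ (η : ↥Mx) (z : Y), z ∈ G η → η.1 ⤳ z := fun η z hz => by
    obtain ⟨ζ, hζz, hζ⟩ := exists_max_generization z
    have : ζ = η.1 := by_contra fun hne => hz.2 (by
      simp only [C, Set.mem_iUnion]
      exact ⟨ζ, ⟨hζ, hne⟩, specializes_iff_mem_closure.1 hζz⟩)
    exact this ▸ hζz
  have hdisj : ∀ (η η' : ↥Mx) (z : Y), z ∈ G η → z ∈ G η' → η = η' := fun η η' z hz hz' => by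
    by_contra hne
    refine hz'.2 ?_
    simp only [C, Set.mem_iUnion]
    exact ⟨η.1, ⟨η.2, fun h => hne (Subtype.ext h)⟩, specializes_iff_mem_closure.1 (hgenG η z hz)⟩
  let W₀ : Y.Opens := ⨆ η, G η
  have hW₀V : W₀ ≤ V := iSup_le fun η => inf_le_left.trans inf_le_right
  obtain ⟨s₀, hs₀, -⟩ := existsUnique_glue (M := L) (V := f ⁻¹ᵁ W₀) (fun η : ↥Mx => f ⁻¹ᵁ G η)
    (fun η => f.preimage_mono (le_iSup G η))
    (fun x hx => by obtain ⟨η, hη⟩ := Opens.mem_iSup.1 (show f x ∈ W₀ from hx); exact ⟨η, hη⟩)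
    (fun η => res L (f.preimage_mono (inf_le_left.trans inf_le_left)) (s η.1)) fun η η' => by
      by_cases h : η = η'
      · subst h; rfl
      · exact eq_of_locally _ _ fun x hx => absurd (hdisj η η' (f x) hx.1 hx.2) h
  have hs₀F : IsFrame s₀ := isFrame_of_locally' s₀ fun x hx => by
    obtain ⟨η, hη⟩ := Opens.mem_iSup.1 (show f x ∈ W₀ from hx)
    refine ⟨f ⁻¹ᵁ G η, f.preimage_mono (le_iSup G η), hη, ?_⟩
    rw [hs₀ η]
    exact (hs η.1).res _
  have hclosed : ∀ z : Y, z ∉ W₀ → IsClosed ({z} : Set Y) := fun z hz =>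
    isClosed_of_not_max hdim fun h => hz (Opens.mem_iSup.2 ⟨⟨z, h⟩, hηG ⟨z, h⟩⟩)
  have hfinC : ∀ Z : Set Y, IsClosed Z → (∀ z ∈ Z, IsClosed ({z} : Set Y)) → Z.Finite := by
    intro Z hZ hcl
    obtain ⟨S, hS, hSc, hSi, rfl⟩ := NoetherianSpace.exists_finite_set_isClosed_irreducible hZ
    refine hS.sUnion fun T hT => Set.Subsingleton.finite ?_
    obtain ⟨g, hg⟩ := QuasiSober.sober (hSi T hT) (hSc T hT)
    intro a ha b hb
    have hgT : g ∈ T := by rw [← hg.def]; exact subset_closure rfl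
    have hcg := (hcl g ⟨T, hT, hgT⟩).closure_eq
    rw [hg.def] at hcg
    rw [hcg] at ha hb
    exact (Set.mem_singleton_iff.1 ha).trans (Set.mem_singleton_iff.1 hb).symm
  let F : Set Y := (W₀ : Set Y)ᶜ
  have hF : F.Finite := hfinC F W₀.isOpen.isClosed_compl hclosed
  -- lifts of the transition units
  have hlift : ∀ y : ↥F, ∃ (U : Y.Opens) (hU : U ≤ W y.1) (a : Γ(Y, U ⊓ W₀)), y.1 ∈ U ∧
      (∀ z ∈ U, z ∈ F → z = y.1) ∧ IsUnit a ∧
      res L (f.preimage_mono (inf_le_left.trans hU : U ⊓ W₀ ≤ W y.1)) (s y.1) =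
        f.app (U ⊓ W₀) a • res L (f.preimage_mono inf_le_right) s₀ := by
    intro y
    let P : Y.Opens := W y.1 ⊓ W₀
    obtain ⟨u, hu⟩ := hs₀F.exists_coord (f.preimage_mono (inf_le_right : P ≤ W₀))
      (res L (f.preimage_mono (inf_le_left : P ≤ W y.1)) (s y.1))
    obtain ⟨v, hv⟩ := (hs y.1).exists_coord (f.preimage_mono (inf_le_left : P ≤ W y.1))
      (res L (f.preimage_mono (inf_le_right : P ≤ W₀)) s₀)
    have huu : IsUnit u := IsUnit.of_mul_eq_one v (hs₀F.coord_unique (f.preimage_mono (inf_le_right : P ≤ W₀)) (by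
      rw [mul_comm, mul_smul, ← hu, ← hv, one_smul]))
    let MP : Type u := {η : ↥Mx // η.1 ∈ P}
    have hl := fun η : MP => exists_unit_lift f V (inf_le_right.trans hW₀V : P ≤ V) η.2 u huu
    choose D hDP a hηD ha hfa using hl
    let D' : MP → Y.Opens := fun η => D η ⊓ G η.1
    let DD : Y.Opens := ⨆ η, D' η
    obtain ⟨aa, haa, -⟩ := TopCat.Sheaf.existsUnique_gluing' Y.sheaf D' DD (fun η => homOfLE (le_iSup D' η))
      (fun z hz => hz) (fun η => resR inf_le_left (a η)) fun η η' => by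
        by_cases h : η = η'
        · subst h; rfl
        · exact TopCat.Presheaf.section_ext Y.sheaf _ _ _ fun z hz =>
            absurd (Subtype.ext (hdisj η.1 η'.1 z hz.1.2 hz.2.2)) h
    have haau : IsUnit aa := by
      refine RingedSpace.isUnit_of_isUnit_germ Y.toRingedSpace _ _ fun z hz => ?_
      obtain ⟨η, hη⟩ := Opens.mem_iSup.1 hz
      have h1 : resR (le_iSup D' η) aa = resR inf_le_left (a η) := haa η
      have h2 := congrArg (Y.presheaf.germ (D' η) z hη) h1
      simp only [resR] at h2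
      rw [Y.presheaf.germ_res_apply] at h2
      show IsUnit (Y.presheaf.germ DD z hz aa)
      rw [h2]
      exact ((ha η).map _).map _
    have hDDP : DD ≤ P := iSup_le fun η => inf_le_left.trans (hDP η)
    have hfaa : f.app DD aa = resR (f.preimage_mono hDDP) u := by
      refine TopCat.Sheaf.eq_of_locally_eq' X.sheaf (fun η => f ⁻¹ᵁ D' η) (f ⁻¹ᵁ DD)
        (fun η => homOfLE (f.preimage_mono (le_iSup D' η)))
        (fun x hx => by obtain ⟨η, hη⟩ := Opens.mem_iSup.1 (show f x ∈ DD from hx); exact Opens.mem_iSup.2 ⟨η, hη⟩)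
        _ _ fun η => ?_
      show resR _ (f.app DD aa) = resR _ (resR _ u)
      rw [resR_resR, show resR (f.preimage_mono (le_iSup D' η)) (f.app DD aa) = f.app (D' η) (resR (le_iSup D' η) aa)
        from (ConcreteCategory.congr_hom (f.naturality (homOfLE (le_iSup D' η)).op) aa).symm,
        show resR (le_iSup D' η) aa = resR inf_le_left (a η) from haa η,
        show f.app (D' η) (resR (inf_le_left : D' η ≤ D η) (a η)) = resR (f.preimage_mono inf_le_left) (f.app (D η) (a η))
        from ConcreteCategory.congr_hom (f.naturality (homOfLE (inf_le_left : D' η ≤ D η)).op) (a η),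
        hfa η, resR_resR]
    have hbad : ((P : Set Y) \ DD).Finite := by
      have hcl : ∀ z ∈ (P : Set Y) \ DD, IsClosed ({z} : Set Y) := fun z hz =>
        isClosed_of_not_max hdim fun h => hz.2 (Opens.mem_iSup.2 ⟨⟨⟨z, h⟩, hz.1⟩, hηD ⟨⟨z, h⟩, hz.1⟩, hηG ⟨z, h⟩⟩)
      have h1 : ∀ z ∈ closure ((P : Set Y) \ DD), IsClosed ({z} : Set Y) := by
        intro z hz
        refine isClosed_of_not_max hdim fun hmax => ?_
        by_cases hzP : z ∈ P
        · have hzD : z ∈ DD := Opens.mem_iSup.2 ⟨⟨⟨z, hmax⟩, hzP⟩, hηD ⟨⟨z, hmax⟩, hzP⟩, hηG ⟨z, hmax⟩⟩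
          obtain ⟨t, ht, ht'⟩ := mem_closure_iff.1 hz _ DD.isOpen hzD
          exact ht'.2 ht
        · obtain ⟨t, ht, ht'⟩ := mem_closure_iff.1 hz _ (G ⟨z, hmax⟩).isOpen (hηG ⟨z, hmax⟩)
          exact hzP ((hgenG ⟨z, hmax⟩ t ht).mem_open P.isOpen ht'.1)
      exact (hfinC _ isClosed_closure h1).subset subset_closure
    let B : Set Y := (F \ {y.1}) ∪ ((P : Set Y) \ DD)
    have hB : IsClosed B := by
      refine IsClosed.union ?_ ?_
      · rw [← Set.biUnion_of_singleton (F \ {y.1})]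
        exact (hF.sdiff).isClosed_biUnion fun z hz => hclosed z hz.1
      · rw [← Set.biUnion_of_singleton ((P : Set Y) \ DD)]
        exact hbad.isClosed_biUnion fun z hz => isClosed_of_not_max hdim fun h =>
          hz.2 (Opens.mem_iSup.2 ⟨⟨⟨z, h⟩, hz.1⟩, hηD ⟨⟨z, h⟩, hz.1⟩, hηG ⟨z, h⟩⟩)
    let U : Y.Opens := W y.1 ⊓ ⟨Bᶜ, hB.isOpen_compl⟩
    have hUD : U ⊓ W₀ ≤ DD := fun z hz => by_contra fun h => hz.1.2 (Or.inr ⟨⟨hz.1.1, hz.2⟩, h⟩)
    refine ⟨U, inf_le_left, resR hUD aa, ⟨hzW _, ?_⟩, fun z hz hzF => by_contra fun h => hz.2 (Or.inl ⟨hzF, h⟩),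
      haau.map _, ?_⟩
    · rintro (⟨-, h⟩ | ⟨h, -⟩)
      · exact h rfl
      · exact y.2 h.2
    · have h1 := congrArg (res L (f.preimage_mono (hUD.trans hDDP))) hu
      rw [res_res, res_smul, res_res] at h1
      rw [h1]
      congr 1
      have h2 := congrArg (resR (f.preimage_mono hUD)) hfaa
      rw [resR_resR] at h2
      rw [← h2]
      exact (ConcreteCategory.congr_hom (f.naturality (homOfLE hUD).op) aa).symm
  choose U hU a hyU hUF ha hrel using hlift
  let O : Option ↥F → Y.Opens := fun i => i.elim W₀ U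
  have hOW : ∀ i j : Option ↥F, i ≠ j → O i ⊓ O j ≤ W₀ := by
    rintro (_ | y) (_ | y') hne z ⟨hz, hz'⟩
    · exact hz
    · exact hz
    · exact hz'
    · by_contra h
      exact hne (congrArg some (Subtype.ext ((hUF y z hz h).symm.trans (hUF y' z hz' h))))
  let al : ∀ i : Option ↥F, Γ(Y, O i ⊓ W₀) := fun i =>
    match i with
    | none => 1
    | some y => a y
  have hal : ∀ i, IsUnit (al i) := by
    rintro (_ | y)
    · exact isUnit_one
    · exact ha y
  let sl : ∀ i : Option ↥F, Γ(L, f ⁻¹ᵁ O i) := fun i =>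
    match i with
    | none => s₀
    | some y => res L (f.preimage_mono (hU y)) (s y.1)
  have hsl : ∀ i, IsFrame (sl i) := by
    rintro (_ | y)
    · exact hs₀F
    · exact (hs y.1).res _
  have hrel' : ∀ i, res L (f.preimage_mono (inf_le_left : O i ⊓ W₀ ≤ O i)) (sl i) =
      f.app (O i ⊓ W₀) (al i) • res L (f.preimage_mono inf_le_right) s₀ := by
    rintro (_ | y)
    · show res L _ s₀ = f.app _ 1 • _
      rw [map_one, one_smul]
    · show res L _ (res L _ (s y.1)) = _
      rw [res_res]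
      exact hrel y
  let g : ∀ i j, (Γ(Y, O i ⊓ O j))ˣ := fun i j =>
    if h : i = j then 1
    else Units.map (resR (le_inf inf_le_left (hOW i j h) : O i ⊓ O j ≤ O i ⊓ W₀)).toMonoidHom (hal i).unit *
      (Units.map (resR (le_inf inf_le_right (hOW i j h) : O i ⊓ O j ≤ O j ⊓ W₀)).toMonoidHom (hal j).unit)⁻¹
  have hg : ∀ i j (W' : Y.Opens) (hi : W' ≤ O i) (hj : W' ≤ O j) (hne : i ≠ j),
      resR (le_inf hi hj) (g i j : Γ(Y, O i ⊓ O j)) *
        resR (le_inf hj ((le_inf hi hj).trans (hOW i j hne)) : W' ≤ O j ⊓ W₀) (al j) =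
        resR (le_inf hi ((le_inf hi hj).trans (hOW i j hne)) : W' ≤ O i ⊓ W₀) (al i) := by
    intro i j W' hi hj hne
    have h1 : (g i j : Γ(Y, O i ⊓ O j)) * resR (le_inf inf_le_right (hOW i j hne)) (al j) =
        resR (le_inf inf_le_left (hOW i j hne)) (al i) := by
      simp only [g, dif_neg hne, Units.val_mul]
      rw [mul_assoc]
      have : resR (le_inf inf_le_right (hOW i j hne) : O i ⊓ O j ≤ O j ⊓ W₀) (al j) =
          ((Units.map (resR (le_inf inf_le_right (hOW i j hne) : O i ⊓ O j ≤ O j ⊓ W₀)).toMonoidHom (hal j).unit :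
            (Γ(Y, O i ⊓ O j))ˣ) : Γ(Y, O i ⊓ O j)) := rfl
      rw [this, Units.inv_mul, mul_one]
      rfl
    have h2 := congrArg (resR (le_inf hi hj)) h1
    rw [map_mul, resR_resR, resR_resR] at h2
    exact h2
  let t : H23.CocycleMod.Cocycle O :=
    { g := g
      trans := fun i j k W' hi hj hk => by
        by_cases hij : i = j
        · subst hij
          simp only [g, dif_pos rfl, Units.val_one, map_one, mul_one]
        by_cases hjk : j = k
        · subst hjk
          simp only [g, dif_pos rfl, Units.val_one, map_one, one_mul]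
        have hW' : W' ≤ W₀ := (le_inf hi hj).trans (hOW i j hij)
        have e1 := hg i j W' hi hj hij
        have e2 := hg j k W' hj hk hjk
        have hu : IsUnit (resR (le_inf hk hW' : W' ≤ O k ⊓ W₀) (al k)) := (hal k).map _
        refine hu.mul_right_cancel ?_
        refine Eq.trans ?_ (show resR (le_inf hi hj) (g i j : Γ(Y, O i ⊓ O j)) *
          (resR (le_inf hj hk) (g j k : Γ(Y, O j ⊓ O k)) * resR (le_inf hk hW' : W' ≤ O k ⊓ W₀) (al k)) = _ by ring)
        rw [e2, e1]
        by_cases hik : i = k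
        · subst hik
          simp only [g, dif_pos rfl, Units.val_one, map_one, one_mul]
        · exact hg i k W' hi hk hik }
  have hOcov : iSup O = ⊤ := top_le_iff.1 fun z _ => by
    by_cases hz : z ∈ W₀
    · exact Opens.mem_iSup.2 ⟨none, hz⟩
    · exact Opens.mem_iSup.2 ⟨some ⟨z, hz⟩, hyU ⟨z, hz⟩⟩
  let e : ∀ i, Γ((Scheme.Modules.pullback f).obj (H23.CocycleMod.mod t), f ⁻¹ᵁ O i) :=
    fun i => pullElt f (H23.CocycleMod.frame t i)
  have he : ∀ i, IsFrame (e i) := fun i => isFrame_pullElt f (H23.CocycleMod.isFrame_frame t i)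
  have hcov : ∀ x : X, ∃ i, x ∈ f ⁻¹ᵁ O i := fun x => by
    obtain ⟨i, hi⟩ := Opens.mem_iSup.1 (show f x ∈ iSup O by rw [hOcov]; trivial)
    exact ⟨i, hi⟩
  have hc : ∀ (i j : Option ↥F) (W' : X.Opens) (hi : W' ≤ f ⁻¹ᵁ O i) (hj : W' ≤ f ⁻¹ᵁ O j) (k : Γ(X, W')),
      res _ hj (e j) = k • res _ hi (e i) → res L hj (sl j) = k • res L hi (sl i) := by
    intro i j W' hi hj k hk
    have hle : W' ≤ f ⁻¹ᵁ (O j ⊓ O i) := fun x hx => ⟨hj hx, hi hx⟩
    have h0 : ∀ (a' b' : Option ↥F) (hab : O a' ⊓ O b' ≤ O a'),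
        res _ (f.preimage_mono hab) (e a') =
          f.app (O a' ⊓ O b') (g a' b' : Γ(Y, O a' ⊓ O b')) • res _ (f.preimage_mono inf_le_right) (e b') := by
      intro a' b' _
      let η := (Scheme.Modules.pullbackPushforwardAdjunction f).unit.app (H23.CocycleMod.mod t)
      have h1 := congrArg (fun m => η.app (O a' ⊓ O b') m) (H23.CocycleMod.res_frame t a' b')
      simp only [Scheme.Modules.Hom.app_smul] at h1
      erw [app_res η, app_res η] at h1
      exact h1
    have h1 := congrArg (res _ hle) (h0 j i inf_le_left)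
    rw [res_res, res_smul, res_res] at h1
    have hk' : k = resR hle (f.app (O j ⊓ O i) (g j i : Γ(Y, O j ⊓ O i))) :=
      (he i).coord_unique hi (hk.symm.trans h1)
    subst hk'
    by_cases hji : j = i
    · subst hji
      simp only [g, dif_pos rfl, Units.val_one, map_one, one_smul]
    have hW₀ : O j ⊓ O i ≤ W₀ := hOW j i hji
    have hj' := congrArg (res L (hle.trans (f.preimage_mono (le_inf inf_le_left hW₀)))) (hrel' j)
    have hi' := congrArg (res L (hle.trans (f.preimage_mono (le_inf inf_le_right hW₀)))) (hrel' i)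
    rw [res_res, res_smul, res_res] at hj' hi'
    rw [hj', hi', ← mul_smul]
    congr 1
    have h2 := congrArg (fun m => resR hle (f.app (O j ⊓ O i) m)) (hg j i (O j ⊓ O i) inf_le_left inf_le_right hji)
    simp only [map_mul] at h2
    have hn : ∀ (l : Option ↥F) (hl : O j ⊓ O i ≤ O l ⊓ W₀),
        resR hle (f.app (O j ⊓ O i) (resR hl (al l))) = resR (hle.trans (f.preimage_mono hl)) (f.app (O l ⊓ W₀) (al l)) :=
      fun l hl => by
        rw [show f.app (O j ⊓ O i) (resR hl (al l)) = resR (f.preimage_mono hl) (f.app (O l ⊓ W₀) (al l)) from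
          ConcreteCategory.congr_hom (f.naturality (homOfLE hl).op) (al l), resR_resR]
    rw [hn, hn, resR_self] at h2
    exact h2.symm
  haveI : IsIso (ofFrames hcov he hc) := DivX.isIso_of_frames _ fun x => by
    obtain ⟨i, hi⟩ := hcov x
    exact ⟨_, hi, e i, he i, by rw [ofFrames_app]; exact hsl i⟩
  exact ⟨H23.CocycleMod.mod t, H23.CocycleMod.isInvertible t hOcov, ⟨asIso (ofFrames hcov he hc)⟩⟩

end Groth.Agent.InvDim1
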